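import Mathlib.RingTheory.Regular.RegularSequence
import Mathlib.RingTheory.Length
import Mathlib.RingTheory.Ideal.AssociatedPrime.Finiteness
import Mathlib.RingTheory.TensorProduct.Quotient
import Mathlib.RingTheory.Flat.Basic
import Mathlib.LinearAlgebra.Dimension.Finite
import Mathlib.LinearAlgebra.FiniteDimensional.Lemmas
import Mathlib.RingTheory.Artinian.Module

/-!
# Lengths modulo regular sequences; dimensions of finite algebras over a field

* `isWeaklyRegular_of_exact`, `length_quot_of_exact`: a weakly regular sequence on the outer terms of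
  a short exact sequence is one on the middle term, and lengths modulo the sequence are additive.
* `length_quot_congr`: invariance under linear equivalences.
* `finrank_mem_of_residue`: the dimension of a finite algebra over a field lies in any subgroup of `ℤ`
  containing the degrees of its residue fields.
-/

universe u v

namespace Groth.Agent.IndexMult

open RingTheory.Sequence Function

section Exact

variable {R A : Type u} [CommRing R] [CommRing A] [Algebra R A]
variable {N₁ N₂ N₃ : Type v} [AddCommGroup N₁] [AddCommGroup N₂] [AddCommGroup N₃]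
  [Module A N₁] [Module A N₂] [Module A N₃]
  {f : N₁ →ₗ[A] N₂} {g : N₂ →ₗ[A] N₃}

omit [Algebra R A] [CommRing R] in
lemma isSMulRegular_mid {r : A} (hf : Injective f) (hfg : Exact f g) (h1 : IsSMulRegular N₁ r)
    (h3 : IsSMulRegular N₃ r) : IsSMulRegular N₂ r :=
  isSMulRegular_of_range_eq_ker hf (LinearMap.exact_iff.mp hfg).symm h1 h3

omit [Algebra R A] [CommRing R] in
theorem isWeaklyRegular_of_exact (rs : List A) :
    ∀ {N₁ N₂ N₃ : Type v} [AddCommGroup N₁] [AddCommGroup N₂] [AddCommGroup N₃]
      [Module A N₁] [Module A N₂] [Module A N₃] {f : N₁ →ₗ[A] N₂} {g : N₂ →ₗ[A] N₃},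
      Injective f → Exact f g → Surjective g → IsWeaklyRegular N₁ rs → IsWeaklyRegular N₃ rs →
      IsWeaklyRegular N₂ rs := by
  induction rs with
  | nil => intros; exact IsWeaklyRegular.nil _ _
  | cons r rs ih =>
    intro N₁ N₂ N₃ _ _ _ _ _ _ f g hf hfg hg h1 h3
    rw [isWeaklyRegular_cons_iff] at h1 h3 ⊢
    refine ⟨isSMulRegular_mid hf hfg h1.1 h3.1, ?_⟩
    refine ih (f := QuotSMulTop.map r f) (g := QuotSMulTop.map r g) ?_
      (QuotSMulTop.map_exact r hfg hg) (QuotSMulTop.map_surjective r hg) h1.2 h3.2
    have h0 : Exact (⊥ : Submodule A N₁).subtype f := fun x => by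
      constructor
      · intro hx
        have hx0 : x = 0 := hf (hx.trans f.map_zero.symm)
        exact ⟨0, hx0 ▸ rfl⟩
      · rintro ⟨y, rfl⟩
        simp [(Submodule.mem_bot A).mp y.2]
    have h4 := QuotSMulTop.map_first_exact_on_four_term_exact_of_isSMulRegular_last h0 hfg h3.1
    refine (injective_iff_map_eq_zero _).mpr fun x hx => ?_
    obtain ⟨y, rfl⟩ := (h4 x).mp hx
    obtain ⟨z, rfl⟩ := Submodule.mkQ_surjective _ y
    have hz : z = 0 := Subtype.ext ((Submodule.mem_bot A).mp z.2)
    subst hz
    simp

/-- Lengths of quotients by a regular sequence are additive in short exact sequences. -/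
theorem length_quot_of_exact [Module R N₁] [Module R N₂] [Module R N₃] [IsScalarTower R A N₁]
    [IsScalarTower R A N₂] [IsScalarTower R A N₃] (hf : Injective f) (hfg : Exact f g)
    (hg : Surjective g) (rs : List A) (h3 : IsWeaklyRegular N₃ rs) :
    Module.length R (N₂ ⧸ (Ideal.ofList rs • ⊤ : Submodule A N₂)) =
      Module.length R (N₁ ⧸ (Ideal.ofList rs • ⊤ : Submodule A N₁)) +
        Module.length R (N₃ ⧸ (Ideal.ofList rs • ⊤ : Submodule A N₃)) := by
  let fq := Submodule.mapQ _ _ f (Submodule.smul_top_le_comap_smul_top (Ideal.ofList rs) f)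
  let gq := Submodule.mapQ _ _ g (Submodule.smul_top_le_comap_smul_top (Ideal.ofList rs) g)
  refine Module.length_eq_add_of_exact (fq.restrictScalars R) (gq.restrictScalars R) ?_ ?_ ?_
  · have h0 : Exact (⊥ : Submodule A N₁).subtype f := fun x => by
      constructor
      · intro hx
        have hx0 : x = 0 := hf (hx.trans f.map_zero.symm)
        exact ⟨0, hx0 ▸ rfl⟩
      · rintro ⟨y, rfl⟩
        simp [(Submodule.mem_bot A).mp y.2]
    have h4 := map_first_exact_on_four_term_right_exact_of_isSMulRegular_last h0 hfg hg h3
    refine (injective_iff_map_eq_zero _).mpr fun x hx => ?_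
    obtain ⟨y, rfl⟩ := (h4 x).mp hx
    obtain ⟨z, rfl⟩ := Submodule.mkQ_surjective _ y
    have hz : z = 0 := Subtype.ext ((Submodule.mem_bot A).mp z.2)
    subst hz
    simp
  · intro x
    obtain ⟨y, rfl⟩ := Submodule.mkQ_surjective _ x
    obtain ⟨z, rfl⟩ := hg y
    exact ⟨Submodule.Quotient.mk z, rfl⟩
  · intro x
    obtain ⟨y, rfl⟩ := Submodule.mkQ_surjective _ x
    constructor
    · intro hy
      have hmem : g y ∈ (Ideal.ofList rs • ⊤ : Submodule A N₃) :=
        (Submodule.Quotient.mk_eq_zero _).mp hy
      rw [← LinearMap.range_eq_top.mpr hg, ← Submodule.map_top, ← Submodule.map_smul''] at hmem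
      obtain ⟨z, hz, hzy⟩ := hmem
      obtain ⟨w, hw⟩ := (hfg (y - z)).mp (by rw [map_sub, hzy, sub_self])
      refine ⟨Submodule.Quotient.mk w, ?_⟩
      show Submodule.Quotient.mk (f w) = Submodule.Quotient.mk y
      rw [hw, Submodule.Quotient.eq, sub_sub_cancel_left, neg_mem_iff]
      exact hz
    · rintro ⟨x', hx'⟩
      obtain ⟨w, rfl⟩ := Submodule.mkQ_surjective _ x'
      rw [← hx']
      show Submodule.Quotient.mk (g (f w)) = 0
      rw [hfg.apply_apply_eq_zero, Submodule.Quotient.mk_zero]

theorem length_quot_congr [Module R N₁] [Module R N₂] [IsScalarTower R A N₁] [IsScalarTower R A N₂]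
    (e : N₁ ≃ₗ[A] N₂) (rs : List A) :
    Module.length R (N₁ ⧸ (Ideal.ofList rs • ⊤ : Submodule A N₁)) =
      Module.length R (N₂ ⧸ (Ideal.ofList rs • ⊤ : Submodule A N₂)) :=
  ((Submodule.Quotient.equiv _ _ e (by
    rw [Submodule.map_smul'', Submodule.map_top, LinearEquiv.range])).restrictScalars R).length_eq

end Exact

section Field

variable {K D : Type u} [Field K] [CommRing D] [Algebra K D] [Module.Finite K D]

/-- The dimension over `K` of a finite module over a finite `K`-algebra `D` lies in every subgroup
containing the degrees of the residue fields of `D`. -/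
theorem finrank_mem_of_residue (G : AddSubgroup ℤ)
    (h : ∀ M : Ideal D, M.IsMaximal → (Module.finrank K (D ⧸ M) : ℤ) ∈ G) :
    (Module.finrank K D : ℤ) ∈ G := by
  have : IsArtinianRing D := IsArtinianRing.of_finite K D
  have : IsNoetherianRing D := IsNoetherianRing.of_finite K D
  have key : ∀ (N : Type u) [AddCommGroup N] [Module D N] [Module.Finite D N],
      ∀ [Module K N] [IsScalarTower K D N], (Module.finrank K N : ℤ) ∈ G := by
    intro N _ _ hN
    induction hN using IsNoetherianRing.induction_on_isQuotientEquivQuotientPrime D with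
    | subsingleton N =>
      intro _ _
      rw [Module.finrank_zero_of_subsingleton]
      exact G.zero_mem
    | quotient N p e =>
      intro _ _
      rw [(e.restrictScalars K).finrank_eq]
      exact h _ (IsArtinianRing.isMaximal_of_isPrime _)
    | exact N₁ N₂ N₃ f g hf hg hfg h1 h3 =>
      intro _ _
      letI : Module K N₁ := Module.compHom N₁ (algebraMap K D)
      letI : Module K N₃ := Module.compHom N₃ (algebraMap K D)
      haveI : IsScalarTower K D N₁ := IsScalarTower.of_algebraMap_smul fun _ _ => rfl
      haveI : IsScalarTower K D N₃ := IsScalarTower.of_algebraMap_smul fun _ _ => rfl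
      haveI : Module.Finite K N₁ := Module.Finite.trans D N₁
      haveI : Module.Finite K N₂ := Module.Finite.trans D N₂
      haveI : Module.Finite K N₃ := Module.Finite.trans D N₃
      have e1 := (g.restrictScalars K).finrank_range_add_finrank_ker
      rw [LinearMap.range_eq_top.mpr (show Function.Surjective (g.restrictScalars K) from hg),
        finrank_top,
        show LinearMap.ker (g.restrictScalars K) = LinearMap.range (f.restrictScalars K) from
          SetLike.ext fun y => (hfg y),
        LinearMap.finrank_range_of_inj (show Function.Injective (f.restrictScalars K) from hf)] at e1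
      rw [← e1, Nat.cast_add]
      exact G.add_mem h3 h1
  exact key D

end Field

end Groth.Agent.IndexMult
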