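import Groth.Prelude.Def_EGA4b
import Groth.Agent.IndexMult.Lemmas
import Groth.Agent.RegLoc.Basic
import Groth.Agent.EGA4Lib.GenericRegular
import Groth.Agent.EGA4Lib.J2
import Groth.Agent.Hensel.QFinite
import Mathlib.RingTheory.ZariskisMainTheorem
import Mathlib.RingTheory.Jacobson.Ring
import Mathlib.RingTheory.Flat.TorsionFree

/-!
# Over a Henselian discrete valuation ring the index divides the multiplicity: the affine case

* `exists_filtration_data`: near the generic point of a component of the closed fibre the fibre is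
  filtered with graded pieces the reduced component, as many as the multiplicity.
* `multiplicity_mem`: the multiplicity lies in every subgroup containing the degrees of the closed
  points of the generic fibre.
-/

universe u

set_option linter.style.haveILetI false

open scoped TensorProduct Pointwise
open RingTheory.Sequence IsLocalRing

namespace Groth.Agent.IndexMult

section Filtration

variable (R : Type u) {A : Type u} [CommRing R] [CommRing A] [Algebra R A] [IsNoetherianRing A]

lemma subsingleton_tensor_quotient (L : Type u) [CommRing L] [Algebra A L] {g : A}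
    (hg : IsUnit (algebraMap A L g)) (N : Type u) [AddCommGroup N] [Module A N]
    (hN : ∀ x : N, g • x = 0) : Subsingleton (L ⊗[A] N) := by
  have h0 : ∀ z : L ⊗[A] N, g • z = 0 := by
    intro z
    induction z with
    | zero => simp
    | tmul l x => rw [← TensorProduct.tmul_smul, hN, TensorProduct.tmul_zero]
    | add a b ha hb => rw [smul_add, ha, hb, add_zero]
  refine subsingleton_of_forall_eq 0 fun z => ?_
  obtain ⟨v, hv⟩ := hg.exists_left_inv
  calc z = (v * algebraMap A L g) • z := by rw [hv, one_smul]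
    _ = v • (algebraMap A L g • z) := mul_smul _ _ _
    _ = 0 := by rw [algebraMap_smul, h0, smul_zero]

variable (A) in
/-- Filtration data of a module killed by `w` at a prime `P` minimal over `(w)`. -/
def Good (P : Ideal A) [P.IsPrime] (N : Type u) [AddCommGroup N] [Module A N] : Prop :=
  ∃ g ∉ P, ∃ n : ℕ, Module.length (Localization.AtPrime P) (Localization.AtPrime P ⊗[A] N) = n ∧
    ∀ (m : Ideal A) [m.IsPrime], P ≤ m → g ∉ m → ∀ fs : List A,
      IsWeaklyRegular (Localization.AtPrime m ⊗[A] (A ⧸ P)) fs →
      Module.length R ((Localization.AtPrime m ⊗[A] (A ⧸ P)) ⧸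
        (Ideal.ofList fs • ⊤ : Submodule A (Localization.AtPrime m ⊗[A] (A ⧸ P)))) = 1 →
      IsWeaklyRegular (Localization.AtPrime m ⊗[A] N) fs ∧
      Module.length R ((Localization.AtPrime m ⊗[A] N) ⧸
        (Ideal.ofList fs • ⊤ : Submodule A (Localization.AtPrime m ⊗[A] N))) = n

theorem exists_filtration_data (P : Ideal A) [P.IsPrime] (w : A)
    (hP : P ∈ (Ideal.span {w}).minimalPrimes) (N : Type u) [AddCommGroup N] [Module A N]
    [hNf : Module.Finite A N] (hN : ∀ x : N, w • x = 0) : Good R A P N := by
  revert hN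
  induction hNf using IsNoetherianRing.induction_on_isQuotientEquivQuotientPrime A with
  | subsingleton N =>
    intro _
    refine ⟨1, P.one_notMem, 0, ?_, fun m _ _ _ fs _ _ => ?_⟩
    · have := subsingleton_tensor_quotient (Localization.AtPrime P) (g := (1 : A)) (by simp) N
        fun _ => Subsingleton.elim _ _
      simp
    · have := subsingleton_tensor_quotient (Localization.AtPrime m) (g := (1 : A)) (by simp) N
        fun _ => Subsingleton.elim _ _
      refine ⟨?_, by simp⟩
      exact ⟨fun i _ => fun a b _ => Subsingleton.elim a b⟩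
  | quotient N p e =>
    intro hN
    have hwp : w ∈ p.1 := by
      obtain ⟨x, hx⟩ := e.surjective (Ideal.Quotient.mk p.1 1)
      have h1 := congrArg e (hN x)
      rw [map_smul, hx, map_zero, Algebra.smul_def, map_one, mul_one] at h1
      exact Ideal.Quotient.eq_zero_iff_mem.mp h1
    by_cases hp : p.1 = P
    · subst hp
      refine ⟨1, p.1.one_notMem, 1, ?_, fun m _ _ _ fs hreg hlen => ?_⟩
      · rw [((TensorProduct.AlgebraTensorModule.congr (LinearEquiv.refl (Localization.AtPrime p.1)
          (Localization.AtPrime p.1)) e)).length_eq,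
          ← (Algebra.TensorProduct.quotIdealMapEquivTensorQuot
            (Localization.AtPrime p.1) p.1).toLinearEquiv.length_eq,
          Localization.AtPrime.map_eq_maximalIdeal, Nat.cast_one]
        have : IsSimpleModule (Localization.AtPrime p.1)
            (Localization.AtPrime p.1 ⧸ maximalIdeal (Localization.AtPrime p.1)) :=
          isSimpleModule_iff_isCoatom.mpr (maximalIdeal.isMaximal _).out
        simp
      · let e' := LinearEquiv.lTensor (Localization.AtPrime m) e.symm
        refine ⟨(e'.isWeaklyRegular_congr fs).mp hreg, ?_⟩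
        rw [← length_quot_congr e' fs, hlen, Nat.cast_one]
    · obtain ⟨g, hgp, hgP⟩ : ∃ g ∈ p.1, g ∉ P := by
        by_contra hc
        push_neg at hc
        exact hp (le_antisymm hc (hP.2 ⟨p.2, (Ideal.span_singleton_le_iff_mem _).mpr hwp⟩ hc))
      have hkill : ∀ x : N, g • x = 0 := fun x => e.injective (by
        obtain ⟨a, ha⟩ := Ideal.Quotient.mk_surjective (e x)
        rw [map_smul, map_zero, ← ha, Algebra.smul_def, Ideal.Quotient.algebraMap_eq, ← map_mul,
          Ideal.Quotient.eq_zero_iff_mem]
        exact Ideal.mul_mem_right _ _ hgp)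
      refine ⟨g, hgP, 0, ?_, fun m _ _ hgm fs _ _ => ?_⟩
      · have := subsingleton_tensor_quotient (Localization.AtPrime P)
          (IsLocalization.map_units _ (⟨g, hgP⟩ : P.primeCompl)) N hkill
        simp
      · have := subsingleton_tensor_quotient (Localization.AtPrime m)
          (IsLocalization.map_units _ (⟨g, hgm⟩ : m.primeCompl)) N hkill
        refine ⟨?_, by simp⟩
        exact ⟨fun i _ => fun a b _ => Subsingleton.elim a b⟩
  | exact N₁ N₂ N₃ f₁ f₂ hf hg hfg h1 h3 =>
    intro hN
    obtain ⟨g₁, hg₁, n₁, hl₁, H₁⟩ := h1 fun x => hf (by rw [map_smul, map_zero]; exact hN _)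
    obtain ⟨g₃, hg₃, n₃, hl₃, H₃⟩ := h3 fun x => by
      obtain ⟨y, rfl⟩ := hg x
      rw [← map_smul, hN, map_zero]
    refine ⟨g₁ * g₃, fun h => (‹P.IsPrime›.mem_or_mem h).elim hg₁ hg₃, n₁ + n₃, ?_,
      fun m _ hPm hgm fs hreg hlen => ?_⟩
    · rw [Module.length_eq_add_of_exact
        (TensorProduct.AlgebraTensorModule.map LinearMap.id f₁ :
          Localization.AtPrime P ⊗[A] N₁ →ₗ[Localization.AtPrime P] Localization.AtPrime P ⊗[A] N₂)
        (TensorProduct.AlgebraTensorModule.map LinearMap.id f₂)
        (Module.Flat.lTensor_preserves_injective_linearMap f₁ hf)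
        (LinearMap.lTensor_surjective _ hg)
        (Module.Flat.lTensor_exact (Localization.AtPrime P) hfg), hl₁, hl₃, Nat.cast_add]
    · have hm₁ : g₁ ∉ m := fun h => hgm (m.mul_mem_right _ h)
      have hm₃ : g₃ ∉ m := fun h => hgm (m.mul_mem_left _ h)
      obtain ⟨r₁, e₁⟩ := H₁ m hPm hm₁ fs hreg hlen
      obtain ⟨r₃, e₃⟩ := H₃ m hPm hm₃ fs hreg hlen
      have i1 : Function.Injective (f₁.lTensor (Localization.AtPrime m)) :=
        Module.Flat.lTensor_preserves_injective_linearMap f₁ hf
      have i2 : Function.Surjective (f₂.lTensor (Localization.AtPrime m)) :=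
        LinearMap.lTensor_surjective _ hg
      have i3 := Module.Flat.lTensor_exact (Localization.AtPrime m) hfg
      refine ⟨isWeaklyRegular_of_exact fs i1 i3 i2 r₁ r₃, ?_⟩
      rw [length_quot_of_exact i1 i3 i2 fs r₃, e₁, e₃, Nat.cast_add]

end Filtration

section Henselian

variable {R : Type u} [CommRing R] [IsDomain R] [IsDiscreteValuationRing R]
variable {A : Type u} [CommRing A] [Algebra R A] [Algebra.FiniteType R A]

/-- Choice of a good closed point of the closed fibre. -/
lemma exists_regular_point [IsAlgClosed (ResidueField R)] {ϖ : R} (hϖ : Irreducible ϖ)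
    (P : Ideal A) [P.IsPrime] (hwP : algebraMap R A ϖ ∈ P) (g : A) (hg : g ∉ P) :
    ∃ m : Ideal A, ∃ _ : m.IsMaximal, P ≤ m ∧ g ∉ m ∧
      Function.Surjective (algebraMap R (A ⧸ m)) ∧
      IsRegularLocalRing (Localization.AtPrime m ⧸ P.map (algebraMap A (Localization.AtPrime m))) := by
  have hmR : maximalIdeal R ≤ RingHom.ker (algebraMap R (A ⧸ P)) := by
    rw [hϖ.maximalIdeal_eq, Ideal.span_singleton_le_iff_mem, RingHom.mem_ker,
      IsScalarTower.algebraMap_apply R A (A ⧸ P), Ideal.Quotient.algebraMap_eq,
      Ideal.Quotient.eq_zero_iff_mem]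
    exact hwP
  letI : Algebra (ResidueField R) (A ⧸ P) :=
    (Ideal.Quotient.lift (maximalIdeal R) (algebraMap R (A ⧸ P)) fun r hr => hmR hr).toAlgebra
  haveI : IsScalarTower R (ResidueField R) (A ⧸ P) := IsScalarTower.of_algebraMap_eq fun _ => rfl
  haveI : Algebra.FiniteType (ResidueField R) (A ⧸ P) :=
    Algebra.FiniteType.of_restrictScalars_finiteType R _ _
  obtain ⟨g₁, hg₁, hreg⟩ := EGA4Lib.exists_forall_mem_regLocus_of_finiteType
    (R := ResidueField R) (S := A ⧸ P) (RingHom.injective _) (fun R' _ _ _ _ _ =>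
      ⟨1, one_ne_zero, fun q _ => EGA4Lib.mem_regLocus_of_field R'
        (isField_of_isIntegral_of_isField' (R := ResidueField R) (Field.toIsField _)) q⟩)
  haveI : IsJacobsonRing (A ⧸ P) := isJacobsonRing_of_finiteType (A := ResidueField R)
  have hne : Ideal.Quotient.mk P g * g₁ ≠ 0 :=
    mul_ne_zero (fun h => hg (Ideal.Quotient.eq_zero_iff_mem.mp h)) hg₁
  obtain ⟨M, hM, hgM⟩ : ∃ M : Ideal (A ⧸ P), M.IsMaximal ∧ Ideal.Quotient.mk P g * g₁ ∉ M := by
    by_contra hc
    push_neg at hc
    apply hne
    have h1 : Ideal.Quotient.mk P g * g₁ ∈ Ideal.jacobson (⊥ : Ideal (A ⧸ P)) :=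
      Submodule.mem_sInf.mpr fun J hJ => hc J hJ.2
    rwa [IsJacobsonRing.out inferInstance Ideal.isRadical_bot, Ideal.mem_bot] at h1
  set m := M.comap (Ideal.Quotient.mk P) with hmdef
  haveI : m.IsMaximal := Ideal.comap_isMaximal_of_surjective _ Ideal.Quotient.mk_surjective
  have hPm : P ≤ m := fun x hx => by
    rw [hmdef, Ideal.mem_comap, Ideal.Quotient.eq_zero_iff_mem.mpr hx]
    exact M.zero_mem
  have hgm : g ∉ m := fun h => hgM (M.mul_mem_right _ h)
  refine ⟨m, inferInstance, hPm, hgm, ?_, ?_⟩
  · letI : Field (A ⧸ m) := Ideal.Quotient.field m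
    letI : Algebra (ResidueField R) (A ⧸ m) :=
      ((Ideal.Quotient.factor hPm).comp (algebraMap (ResidueField R) (A ⧸ P))).toAlgebra
    haveI : IsScalarTower R (ResidueField R) (A ⧸ m) := IsScalarTower.of_algebraMap_eq fun r => by
      change _ = Ideal.Quotient.factor hPm (algebraMap R (A ⧸ P) r)
      rw [IsScalarTower.algebraMap_apply R A (A ⧸ m), IsScalarTower.algebraMap_apply R A (A ⧸ P)]
      rfl
    haveI : Algebra.FiniteType (ResidueField R) (A ⧸ m) :=
      Algebra.FiniteType.of_restrictScalars_finiteType R _ _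
    haveI := finite_of_finite_type_of_isJacobsonRing (ResidueField R) (A ⧸ m)
    intro y
    obtain ⟨c, hc⟩ := IsAlgClosed.algebraMap_bijective_of_isIntegral (k := ResidueField R)
      (K := A ⧸ m) |>.2 y
    obtain ⟨r, rfl⟩ := residue_surjective c
    exact ⟨r, by rw [← hc, IsScalarTower.algebraMap_apply R (ResidueField R) (A ⧸ m)]; rfl⟩
  · have h1 : IsRegularLocalRing (Localization.AtPrime M) :=
      hreg ⟨M, hM.isPrime⟩ fun h => hgM (M.mul_mem_left _ h)
    have hsub : Algebra.algebraMapSubmonoid (A ⧸ P) m.primeCompl = M.primeCompl := by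
      ext x
      constructor
      · rintro ⟨a, ha, rfl⟩
        exact ha
      · intro hx
        obtain ⟨a, rfl⟩ := Ideal.Quotient.mk_surjective x
        exact ⟨a, hx, rfl⟩
    haveI : IsLocalization M.primeCompl
        (Localization.AtPrime m ⧸ P.map (algebraMap A (Localization.AtPrime m))) := by
      rw [← hsub]
      infer_instance
    exact IsRegularLocalRing.of_ringEquiv (IsLocalization.algEquiv M.primeCompl
      (Localization.AtPrime M)
      (Localization.AtPrime m ⧸ P.map (algebraMap A (Localization.AtPrime m)))).toRingEquiv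

/-- A regular sequence of parameters of `(A/P)_m` by elements of `m`. -/
lemma exists_parameters (P m : Ideal A) [m.IsMaximal] (hPm : P ≤ m)
    (hsurj : Function.Surjective (algebraMap R (A ⧸ m)))
    [IsRegularLocalRing (Localization.AtPrime m ⧸ P.map (algebraMap A (Localization.AtPrime m)))] :
    ∃ fs : List A, (∀ x ∈ fs, x ∈ m) ∧
      IsWeaklyRegular (Localization.AtPrime m ⊗[A] (A ⧸ P)) fs ∧
      Module.length R ((Localization.AtPrime m ⊗[A] (A ⧸ P)) ⧸
        (Ideal.ofList fs • ⊤ : Submodule A (Localization.AtPrime m ⊗[A] (A ⧸ P)))) = 1 := by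
  classical
  set B := Localization.AtPrime m ⧸ P.map (algebraMap A (Localization.AtPrime m)) with hB
  obtain ⟨d, hd, -⟩ := RegLoc.exists_natCast_eq_ringKrullDim B
  have hspan : ∃ a : Fin d → A, Ideal.span (Set.range fun i => algebraMap A B (a i)) =
      maximalIdeal B := by
    obtain ⟨s, hs, hs'⟩ := Submodule.FG.exists_span_finset_card_eq_spanFinrank
      (IsNoetherian.noetherian (maximalIdeal B))
    rw [RegLoc.spanFinrank_eq_dim hd] at hs
    let x : Fin d → B := fun i => (s.equivFinOfCardEq hs).symm i
    have hx : Ideal.span (Set.range x) = maximalIdeal B := by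
      have hrange : Set.range x = (s : Set B) := by
        ext z
        constructor
        · rintro ⟨i, rfl⟩
          exact ((s.equivFinOfCardEq hs).symm i).2
        · intro hz
          exact ⟨s.equivFinOfCardEq hs ⟨z, hz⟩, by simp [x]⟩
      rw [hrange]
      exact hs'
    have hnum : ∀ z : B, ∃ a : A, ∃ v : Bˣ, z = (v : B) * algebraMap A B a := by
      intro z
      obtain ⟨z, rfl⟩ := Ideal.Quotient.mk_surjective z
      obtain ⟨⟨a, s'⟩, h⟩ := IsLocalization.surj m.primeCompl z
      have hu : IsUnit (algebraMap A B s') :=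
        (IsLocalization.map_units (Localization.AtPrime m) s').map (Ideal.Quotient.mk _)
      refine ⟨a, hu.unit⁻¹, ?_⟩
      rw [Units.eq_inv_mul_iff_mul_eq, IsUnit.unit_spec, mul_comm]
      exact congrArg (Ideal.Quotient.mk _) h
    choose a v hav using fun i => hnum (x i)
    refine ⟨a, le_antisymm (Ideal.span_le.mpr ?_) (hx ▸ Ideal.span_le.mpr ?_)⟩
    · rintro _ ⟨i, rfl⟩
      rw [SetLike.mem_coe, ← hx, ← Ideal.unit_mul_mem_iff_mem _ (Units.isUnit (v i)), ← hav]
      exact Ideal.subset_span ⟨i, rfl⟩
    · rintro _ ⟨i, rfl⟩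
      rw [hav]
      exact Ideal.mul_mem_left _ _ (Ideal.subset_span ⟨i, rfl⟩)
  obtain ⟨a, ha⟩ := hspan
  have hmem : ∀ x ∈ List.ofFn a, x ∈ m := by
    intro x hx
    obtain ⟨i, rfl⟩ := (List.mem_ofFn' a x).mp hx
    by_contra hni
    have hu : IsUnit (algebraMap A B (a i)) :=
      (IsLocalization.map_units (Localization.AtPrime m) (⟨a i, hni⟩ : m.primeCompl)).map
        (Ideal.Quotient.mk _)
    exact (maximalIdeal.isMaximal B).ne_top
      (Ideal.eq_top_of_isUnit_mem _ (ha.le (Ideal.subset_span ⟨i, rfl⟩)) hu)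
  have hregB : IsWeaklyRegular B (List.ofFn a) := by
    rw [← isWeaklyRegular_map_algebraMap_iff B, List.map_ofFn]
    exact (RegLoc.isRegular_ofFn hd _ ha).toIsWeaklyRegular
  let e : B ≃ₗ[A] Localization.AtPrime m ⊗[A] (A ⧸ P) :=
    (Algebra.TensorProduct.quotIdealMapEquivTensorQuot (Localization.AtPrime m) P).toLinearEquiv
      |>.restrictScalars A
  refine ⟨List.ofFn a, hmem, (e.isWeaklyRegular_congr _).mp hregB, ?_⟩
  rw [← length_quot_congr e (List.ofFn a)]
  have hmax : (Ideal.ofList (List.ofFn a)).map (algebraMap A B) = maximalIdeal B := by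
    rw [Ideal.map_ofList, List.map_ofFn, ← ha, Ideal.ofList]
    congr 1
    ext z
    exact List.mem_ofFn' _ z
  have hq : (Ideal.ofList (List.ofFn a) • ⊤ : Submodule A B) =
      (maximalIdeal B).restrictScalars A := by
    rw [Ideal.smul_top_eq_map, hmax]
  rw [((Submodule.quotEquivOfEq _ _ hq).restrictScalars R).length_eq,
    ((Submodule.Quotient.restrictScalarsEquiv A (maximalIdeal B)).restrictScalars R).length_eq]
  have hsurjk : Function.Surjective (algebraMap R (B ⧸ maximalIdeal B)) := by
    intro z
    obtain ⟨z, rfl⟩ := Ideal.Quotient.mk_surjective z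
    obtain ⟨z, rfl⟩ := Ideal.Quotient.mk_surjective z
    obtain ⟨⟨x, s⟩, h⟩ := IsLocalization.surj m.primeCompl z
    obtain ⟨t, ht⟩ : ∃ t : A, (s : A) * t - 1 ∈ m := by
      obtain ⟨y, hy⟩ := Ideal.Quotient.mk_surjective
        ((Ideal.Quotient.field m).inv (Ideal.Quotient.mk m (s : A)))
      refine ⟨y, Ideal.Quotient.eq.mp ?_⟩
      rw [map_mul, map_one, hy]
      letI := Ideal.Quotient.field m
      exact mul_inv_cancel₀ fun h0 => s.2 (Ideal.Quotient.eq_zero_iff_mem.mp h0)
    obtain ⟨r, hr⟩ := hsurj (Ideal.Quotient.mk m (x * t))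
    rw [IsScalarTower.algebraMap_apply R A (A ⧸ m), Ideal.Quotient.algebraMap_eq] at hr
    refine ⟨r, ?_⟩
    let π : A →+* B ⧸ maximalIdeal B := (Ideal.Quotient.mk _).comp (algebraMap A B)
    have hπ : ∀ y ∈ m, π y = 0 := by
      intro y hy
      refine Ideal.Quotient.eq_zero_iff_mem.mpr ?_
      have hyL : algebraMap A (Localization.AtPrime m) y ∈ maximalIdeal (Localization.AtPrime m) :=
        (IsLocalization.AtPrime.to_map_mem_maximal_iff _ m y).mpr hy
      intro hu
      have : IsLocalHom (Ideal.Quotient.mk (P.map (algebraMap A (Localization.AtPrime m)))) :=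
        IsLocalHom.of_surjective _ Ideal.Quotient.mk_surjective
      exact hyL (IsUnit.of_map (Ideal.Quotient.mk (P.map (algebraMap A (Localization.AtPrime m)))) _ hu)
    have h1 : π (algebraMap R A r) = π (x * t) :=
      sub_eq_zero.mp (by rw [← map_sub]; exact hπ _ (Ideal.Quotient.eq.mp hr))
    have h2 : π s * π t = 1 := by
      rw [← map_mul, ← map_one π]
      exact sub_eq_zero.mp (by rw [← map_sub]; exact hπ _ ht)
    have h3 : Ideal.Quotient.mk (maximalIdeal B) (Ideal.Quotient.mk _ z) * π s = π x := by
      have := congrArg (fun y => Ideal.Quotient.mk (maximalIdeal B) (Ideal.Quotient.mk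
        (P.map (algebraMap A (Localization.AtPrime m))) y)) h
      simp only [map_mul] at this
      exact this
    calc algebraMap R (B ⧸ maximalIdeal B) r = π (algebraMap R A r) := by
          rw [IsScalarTower.algebraMap_apply R A (B ⧸ maximalIdeal B)]; rfl
      _ = π x * π t := by rw [h1, map_mul]
      _ = _ := by rw [← h3, mul_assoc, h2, mul_one]
  rw [Module.length_eq_of_surjective (R := B ⧸ maximalIdeal B) hsurjk]
  letI := Ideal.Quotient.field (maximalIdeal B)
  rw [Module.length_eq_finrank, Module.finrank_self, Nat.cast_one]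

omit [IsDiscreteValuationRing R] [Algebra.FiniteType R A] in
/-- The rank of a finite free quotient of `A` lies in every subgroup which contains the degrees of
the closed points of the generic fibre. -/
lemma finrank_mem_of_generic (G : AddSubgroup ℤ)
    (hG : ∀ (L : Type u) [Field L] [Algebra (FractionRing R) L] [Module.Finite (FractionRing R) L]
      (φ : A →+* L),
      (∀ r, φ (algebraMap R A r) =
        algebraMap (FractionRing R) L (algebraMap R (FractionRing R) r)) →
      (∀ F : Subfield L, (∀ a, φ a ∈ F) → (∀ c, algebraMap (FractionRing R) L c ∈ F) → F = ⊤) →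
      (Module.finrank (FractionRing R) L : ℤ) ∈ G)
    (T : Type u) [CommRing T] [Algebra R T] [Module.Finite R T] [Module.Free R T]
    (π : A →ₐ[R] T) (hπ : Function.Surjective π) : (Module.finrank R T : ℤ) ∈ G := by
  rw [← Module.finrank_baseChange (R := FractionRing R)]
  refine finrank_mem_of_residue (K := FractionRing R) (D := FractionRing R ⊗[R] T) G fun M hM => ?_
  letI : Field ((FractionRing R ⊗[R] T) ⧸ M) := Ideal.Quotient.field M
  refine hG _ ((Ideal.Quotient.mk M).comp
    ((Algebra.TensorProduct.includeRight (R := R) (A := FractionRing R) (B := T)).comp π).toRingHom)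
    ?_ ?_
  · intro r
    change Ideal.Quotient.mk M
      ((Algebra.TensorProduct.includeRight (R := R) (A := FractionRing R) (B := T)).comp π
        (algebraMap R A r)) = _
    rw [AlgHom.commutes, IsScalarTower.algebraMap_apply R (FractionRing R) (FractionRing R ⊗[R] T)]
    rfl
  · intro F hA hK
    rw [eq_top_iff]
    intro z hz
    clear hz
    obtain ⟨z, rfl⟩ := Ideal.Quotient.mk_surjective z
    induction z with
    | zero => rw [map_zero]; exact F.zero_mem
    | tmul c t =>
      obtain ⟨a, rfl⟩ := hπ t
      rw [show c ⊗ₜ[R] (π a) = (c ⊗ₜ[R] (1 : T)) * ((1 : FractionRing R) ⊗ₜ[R] π a) by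
        simp [Algebra.TensorProduct.tmul_mul_tmul], map_mul]
      exact F.mul_mem (hK c) (hA a)
    | add x y hx hy => rw [map_add]; exact F.add_mem hx hy

/-- The affine form: the multiplicity of the closed fibre along `P` lies in every subgroup which
contains the degrees of the closed points of the generic fibre. -/
theorem multiplicity_mem [HenselianLocalRing R] [IsAlgClosed (ResidueField R)] {ϖ : R}
    (hϖ : Irreducible ϖ) (hflat : IsSMulRegular A (algebraMap R A ϖ))
    (P : Ideal A) [P.IsPrime] (hP : P ∈ (Ideal.span {algebraMap R A ϖ}).minimalPrimes)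
    (G : AddSubgroup ℤ)
    (hG : ∀ (L : Type u) [Field L] [Algebra (FractionRing R) L] [Module.Finite (FractionRing R) L]
      (φ : A →+* L),
      (∀ r, φ (algebraMap R A r) =
        algebraMap (FractionRing R) L (algebraMap R (FractionRing R) r)) →
      (∀ F : Subfield L, (∀ a, φ a ∈ F) → (∀ c, algebraMap (FractionRing R) L c ∈ F) → F = ⊤) →
      (Module.finrank (FractionRing R) L : ℤ) ∈ G) :
    ∃ ℓ : ℕ, Module.length (Localization.AtPrime P) (Localization.AtPrime P ⧸
      (Ideal.span {algebraMap R A ϖ}).map (algebraMap A (Localization.AtPrime P))) = ℓ ∧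
      (ℓ : ℤ) ∈ G := by
  haveI : IsNoetherianRing A := Algebra.FiniteType.isNoetherianRing R A
  set w := algebraMap R A ϖ with hw
  have hkill : ∀ x : A ⧸ Ideal.span {w}, w • x = 0 := by
    intro x
    obtain ⟨y, rfl⟩ := Ideal.Quotient.mk_surjective x
    rw [Algebra.smul_def, Ideal.Quotient.algebraMap_eq, ← map_mul, Ideal.Quotient.eq_zero_iff_mem]
    exact Ideal.mul_mem_right _ _ (Ideal.mem_span_singleton_self w)
  obtain ⟨g, hg, n, hn, H⟩ := exists_filtration_data R P w hP (A ⧸ Ideal.span {w}) hkill
  refine ⟨n, ?_, ?_⟩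
  · rw [← hn]
    exact ((Algebra.TensorProduct.quotIdealMapEquivTensorQuot (Localization.AtPrime P)
      (Ideal.span {w})).toLinearEquiv).length_eq
  have hwP : w ∈ P := hP.1.2 (Ideal.mem_span_singleton_self w)
  obtain ⟨m, hm, hPm, hgm, hsurj, hregB⟩ := exists_regular_point hϖ P hwP g hg
  obtain ⟨fs, hfsm, hfsreg, hfslen⟩ := exists_parameters (R := R) P m hPm hsurj
  obtain ⟨hreg, hlen⟩ := H m hPm hgm fs hfsreg hfslen
  -- work in `L = A_m`
  set L := Localization.AtPrime m with hL
  haveI : IsNoetherianRing L := IsLocalization.isNoetherianRing m.primeCompl L inferInstance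
  have hwm : w ∈ m := hPm hwP
  let eQ : (L ⧸ (Ideal.span {w}).map (algebraMap A L)) ≃ₗ[A] L ⊗[A] (A ⧸ Ideal.span {w}) :=
    (Algebra.TensorProduct.quotIdealMapEquivTensorQuot L (Ideal.span {w})).toLinearEquiv
      |>.restrictScalars A
  have hwL : IsSMulRegular L w := by
    have h1 : IsSMulRegular (A ⊗[A] L) w := IsSMulRegular.rTensor L hflat
    exact ((TensorProduct.lid A L).isSMulRegular_congr w).mp h1
  let eW : QuotSMulTop w L ≃ₗ[A] L ⧸ (Ideal.span {w}).map (algebraMap A L) :=
    (Submodule.quotEquivOfEq _ _ (by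
      rw [← Submodule.ideal_span_singleton_smul, Ideal.smul_top_eq_map])).trans
      (Submodule.Quotient.restrictScalarsEquiv A _)
  have hregL : IsWeaklyRegular L (w :: fs) :=
    IsWeaklyRegular.cons hwL (((eW.trans eQ).isWeaklyRegular_congr fs).mpr hreg)
  have hperm : IsWeaklyRegular L (fs ++ [w]) := by
    rw [← isWeaklyRegular_map_algebraMap_iff L] at hregL ⊢
    refine IsLocalRing.isWeaklyRegular_of_perm_of_subset_maximalIdeal hregL
      ((List.perm_append_comm (l₁ := [w]) (l₂ := fs)).map _) ?_
    intro x hx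
    obtain ⟨y, hy, rfl⟩ := List.mem_map.mp hx
    refine (IsLocalization.AtPrime.to_map_mem_maximal_iff L m y).mpr ?_
    rcases List.mem_cons.mp hy with rfl | hy
    exacts [hwm, hfsm y hy]
  have hwT : IsSMulRegular (L ⧸ (Ideal.ofList fs • ⊤ : Submodule A L)) w :=
    (isWeaklyRegular_singleton_iff _ _).mp ((isWeaklyRegular_append_iff L fs [w]).mp hperm).2
  -- the henselian splitting
  set J := Ideal.ofList fs with hJ
  have hJm : J ≤ m := Ideal.span_le.mpr fun x hx => hfsm x hx
  set q := m.map (Ideal.Quotient.mk J) with hq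
  haveI : q.IsMaximal := Ideal.IsMaximal.map_of_surjective_of_ker_le Ideal.Quotient.mk_surjective
    (by rw [Ideal.mk_ker]; exact hJm)
  have hqm : q.comap (Ideal.Quotient.mk J) = m := by
    rw [hq, Ideal.comap_map_of_surjective _ Ideal.Quotient.mk_surjective, sup_eq_left,
      ← RingHom.ker_eq_comap_bot, Ideal.mk_ker]
    exact hJm
  haveI : q.LiesOver (maximalIdeal R) := by
    refine ⟨((maximalIdeal.isMaximal R).eq_of_le (Ideal.IsPrime.ne_top
      (inferInstanceAs (q.comap (algebraMap R (A ⧸ J))).IsPrime)) ?_)⟩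
    rw [hϖ.maximalIdeal_eq, Ideal.span_singleton_le_iff_mem]
    change algebraMap R (A ⧸ J) ϖ ∈ q
    rw [IsScalarTower.algebraMap_apply R A (A ⧸ J)]
    exact Ideal.mem_map_of_mem _ hwm
  -- length of `T/ϖT`
  have hsub : Algebra.algebraMapSubmonoid (A ⧸ J) m.primeCompl = q.primeCompl := by
    ext x
    constructor
    · rintro ⟨a, ha, rfl⟩ hx
      exact ha (hqm.le hx)
    · intro hx
      obtain ⟨a, rfl⟩ := Ideal.Quotient.mk_surjective x
      exact ⟨a, fun h => hx (hqm.ge h), rfl⟩
  set T := L ⧸ J.map (algebraMap A L) with hT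
  haveI hTloc : IsLocalization q.primeCompl T := by
    rw [← hsub]
    infer_instance
  haveI : IsScalarTower R (A ⧸ J) T := IsScalarTower.of_algebraMap_eq fun _ => rfl
  let eT : (L ⧸ (J • ⊤ : Submodule A L)) ≃ₗ[A] T :=
    (Submodule.quotEquivOfEq _ _ (Ideal.smul_top_eq_map J)).trans
      (Submodule.Quotient.restrictScalarsEquiv A _)
  have hwT' : IsSMulRegular T w := (eT.isSMulRegular_congr w).mp hwT
  have hTlen : Module.length R (QuotSMulTop w T) = n := by
    rw [← hlen, ← length_quot_congr eQ fs, ← length_quot_congr eW fs]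
    exact ((((Submodule.quotOfListConsSMulTopEquivQuotSMulTopInner L w fs).symm.trans
      (Submodule.quotOfListConsSMulTopEquivQuotSMulTopOuter L w fs)).trans
      (QuotSMulTop.congr w eT)).restrictScalars R).symm.length_eq
  -- quasi-finiteness
  haveI : Algebra.QuasiFiniteAt R q := by
    haveI : Algebra.WeaklyQuasiFiniteAt R q := by
      rw [Algebra.weaklyQuasiFiniteAt_iff]
      haveI : Module.Finite R (QuotSMulTop w T) := by
        have h1 : IsFiniteLength R (QuotSMulTop w T) :=
          Module.length_ne_top_iff.mp (by rw [hTlen]; exact ENat.coe_ne_top n)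
        haveI := (isFiniteLength_iff_isNoetherian_isArtinian.mp h1).1
        infer_instance
      let e₀ : T ≃ₐ[R] Localization.AtPrime q :=
        (IsLocalization.algEquiv q.primeCompl T (Localization.AtPrime q)).restrictScalars R
      let ψ : T →ₗ[R] Localization.AtPrime q ⧸
          (q.under R).map (algebraMap R (Localization.AtPrime q)) :=
        (Ideal.Quotient.mkₐ R _).toLinearMap.comp e₀.toLinearMap
      have hψ : LinearMap.ker ψ ≥ (w • ⊤ : Submodule A T).restrictScalars R := by
        intro x hx
        obtain ⟨y, -, rfl⟩ := hx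
        have h1 : (w • y : T) = ϖ • y := by rw [hw, algebraMap_smul]
        rw [LinearMap.mem_ker]
        show ψ (w • y) = 0
        refine (congrArg ψ (h1.trans (Algebra.smul_def ϖ y))).trans ?_
        change Ideal.Quotient.mk ((q.under R).map (algebraMap R (Localization.AtPrime q)))
          (e₀ (algebraMap R T ϖ * y)) = 0
        rw [map_mul, e₀.commutes, Ideal.Quotient.eq_zero_iff_mem]
        refine Ideal.mul_mem_right _ _ ?_
        refine Ideal.mem_map_of_mem _ ?_
        rw [← Ideal.over_def q (maximalIdeal R)]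
        exact hϖ.maximalIdeal_eq.ge (Ideal.mem_span_singleton_self ϖ)
      haveI : Module.Finite R (Localization.AtPrime q ⧸
          (q.under R).map (algebraMap R (Localization.AtPrime q))) := by
        refine Module.Finite.of_surjective
          ((Submodule.liftQ _ ψ hψ).comp
            (Submodule.Quotient.restrictScalarsEquiv R (w • ⊤ : Submodule A T)).symm.toLinearMap) ?_
        have hs1 : Function.Surjective
            (Submodule.liftQ ((w • ⊤ : Submodule A T).restrictScalars R) ψ hψ) := by
          rw [← LinearMap.range_eq_top, Submodule.range_liftQ, LinearMap.range_eq_top]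
          intro z
          obtain ⟨z, rfl⟩ := Ideal.Quotient.mk_surjective z
          obtain ⟨z, rfl⟩ := e₀.surjective z
          exact ⟨z, rfl⟩
        rw [LinearMap.coe_comp, LinearEquiv.coe_coe]
        exact hs1.comp (LinearEquiv.surjective _)
      infer_instance
    exact Algebra.QuasiFiniteAt.of_weaklyQuasiFiniteAt q
  obtain ⟨e, he, heq, hefin, heuniq⟩ := Hensel.exists_idempotent_of_quasiFiniteAt (R := R) q
  set T' := (A ⧸ J) ⧸ Ideal.span {1 - e} with hT'
  have hT'loc : IsLocalization q.primeCompl T' := by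
    have hmax : ∀ M : Ideal T', M.IsMaximal → M.comap (Ideal.Quotient.mk _) = q := by
      intro M hM
      haveI := Ideal.comap_isMaximal_of_surjective (Ideal.Quotient.mk (Ideal.span {1 - e}))
        Ideal.Quotient.mk_surjective (K := M)
      refine heuniq _ inferInstance ⟨?_⟩ fun he' => ?_
      · haveI : (M.comap (algebraMap R T')).IsMaximal :=
          Ideal.isMaximal_comap_of_isIntegral_of_isMaximal M
        exact (IsLocalRing.eq_maximalIdeal this).symm
      · have h1 : Ideal.Quotient.mk (Ideal.span {1 - e}) (1 - e) = 0 :=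
          Ideal.Quotient.mk_singleton_self _
        have h2 : (1 : A ⧸ J) ∈ M.comap (Ideal.Quotient.mk (Ideal.span {1 - e})) := by
          have := Ideal.add_mem _ (show (1 - e) ∈ M.comap (Ideal.Quotient.mk (Ideal.span {1 - e})) by
            rw [Ideal.mem_comap, h1]; exact M.zero_mem) he'
          rwa [sub_add_cancel] at this
        exact Ideal.IsPrime.ne_top' ((Ideal.eq_top_iff_one _).mpr h2)
    constructor
    constructor
    · rintro ⟨s, hs⟩
      by_contra hu
      obtain ⟨M, hM, hle⟩ := Ideal.exists_le_maximal _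
        (mt Ideal.span_singleton_eq_top.mp hu)
      exact hs ((hmax M hM).le (hle (Ideal.mem_span_singleton_self _)))
    · intro z
      obtain ⟨y, rfl⟩ := Ideal.Quotient.mk_surjective z
      refine ⟨⟨y, 1⟩, ?_⟩
      simp only [OneMemClass.coe_one, map_one, mul_one]
      rfl
    · intro x y h
      refine ⟨⟨e, heq⟩, ?_⟩
      obtain ⟨c, hc⟩ := Ideal.mem_span_singleton.mp (Ideal.Quotient.eq.mp h)
      have : e * (x - y) = 0 := by
        rw [hc, ← mul_assoc, mul_sub, mul_one, he.eq, sub_self, zero_mul]
      exact sub_eq_zero.mp (by rw [← mul_sub]; exact this)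
  let e₁ : T' ≃ₐ[R] T := (IsLocalization.algEquiv q.primeCompl T' T).restrictScalars R
  haveI : Module.Finite R T := Module.Finite.equiv e₁.toLinearEquiv
  -- `T` is free of rank `n`
  haveI : Module.Free R T := by
    haveI : Module.IsTorsionFree R T := by
      refine Module.IsTorsionFree.mk fun r hr => ?_
      obtain ⟨k, u, rfl⟩ := IsDiscreteValuationRing.eq_unit_mul_pow_irreducible
        hr.ne_zero hϖ
      have h1 : IsSMulRegular T (ϖ : R) := fun a b hab => hwT' (by
        change w • a = w • b
        rw [hw, algebraMap_smul, algebraMap_smul]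
        exact hab)
      exact (u.isUnit.isSMulRegular T).mul (h1.pow k)
    exact Module.free_of_finite_type_torsion_free'
  have hrank : Module.finrank R T = n := by
    have e2 : QuotSMulTop w T ≃ₗ[R] (R ⧸ Ideal.span {ϖ}) ⊗[R] T := by
      refine LinearEquiv.trans ((Submodule.Quotient.restrictScalarsEquiv R
        (w • ⊤ : Submodule A T)).symm.trans (Submodule.quotEquivOfEq _
          (Ideal.span {ϖ} • ⊤ : Submodule R T) ?_))
        (TensorProduct.quotTensorEquivQuotSMul T (Ideal.span {ϖ})).symm
      ext x
      rw [Submodule.ideal_span_singleton_smul]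
      constructor
      · rintro ⟨y, -, rfl⟩
        exact ⟨y, trivial, (algebraMap_smul A ϖ y).symm⟩
      · rintro ⟨y, -, rfl⟩
        exact ⟨y, trivial, algebraMap_smul A ϖ y⟩
    haveI : (Ideal.span {ϖ}).IsMaximal := hϖ.maximalIdeal_eq ▸ maximalIdeal.isMaximal R
    letI := Ideal.Quotient.field (Ideal.span {ϖ})
    rw [e2.length_eq, Module.length_eq_of_surjective (R := R ⧸ Ideal.span {ϖ})
      (Ideal.Quotient.mk_surjective (I := Ideal.span {ϖ})),
      Module.length_eq_finrank, Module.finrank_baseChange] at hTlen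
    exact_mod_cast hTlen
  have hsurjT : Function.Surjective (algebraMap A T') :=
    (Ideal.Quotient.mk_surjective.comp Ideal.Quotient.mk_surjective :
      Function.Surjective ((Ideal.Quotient.mk (Ideal.span {1 - e})).comp (Ideal.Quotient.mk J)))
  rw [← hrank]
  exact finrank_mem_of_generic G hG T
    (e₁.toAlgHom.comp (IsScalarTower.toAlgHom R A T')) (e₁.surjective.comp hsurjT)

end Henselian

end Groth.Agent.IndexMult
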